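import Mathlib
import Cfsg.Agent.Lib.NilpotentPerm.Basic

/-! Nilpotent groups of even permutations. -/

set_option autoImplicit false

namespace Cfsg.Agent.Lib.NilpotentPerm

open MulAction

variable {G Ω : Type} [Group G] [Finite G] [Finite Ω] [MulAction G Ω] [FaithfulSMul G Ω]

omit [Finite G] [Finite Ω] [FaithfulSMul G Ω] in
/-- The sign of the permutation given by `g` factors along an invariant set. -/
theorem sign_toPermHom [Fintype Ω] [DecidableEq Ω] (s : SubMulAction G Ω) [Fintype s]
    [Fintype (complAction s)] [DecidableEq s] [DecidableEq (complAction s)] (g : G) :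
    Equiv.Perm.sign (toPermHom G Ω g) =
      Equiv.Perm.sign (toPermHom G s g) * Equiv.Perm.sign (toPermHom G (complAction s) g) := by
  classical
  let e : s ⊕ (complAction s) ≃ Ω := Equiv.sumCompl (fun y => y ∈ s)
  have he : toPermHom G Ω g = e.permCongr (Equiv.sumCongr (toPermHom G s g) (toPermHom G (complAction s) g)) := by
    apply Equiv.ext
    intro y
    obtain ⟨z, rfl⟩ := e.surjective y
    rw [Equiv.permCongr_apply, Equiv.symm_apply_apply]
    rcases z with z | z <;> rfl
  rw [he, Equiv.Perm.sign_permCongr, Equiv.Perm.sign_sumCongr]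

/-- A Sylow 2-subgroup of a symmetric group on at least two points contains an odd permutation. -/
theorem exists_sign_neg_one {Δ : Type} [Fintype Δ] [DecidableEq Δ] (h : 2 ≤ Fintype.card Δ)
    (S : Sylow 2 (Equiv.Perm Δ)) : ∃ σ ∈ S, Equiv.Perm.sign σ = -1 := by
  haveI := Fact.mk Nat.prime_two
  haveI : Nontrivial Δ := Fintype.one_lt_card_iff_nontrivial.1 h
  by_contra hc
  push Not at hc
  have hle : (S : Subgroup (Equiv.Perm Δ)) ≤ alternatingGroup Δ := fun σ hσ =>
    Equiv.Perm.mem_alternatingGroup.2 ((Int.units_eq_one_or _).resolve_right (hc σ hσ))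
  have h2 : 2 ∣ (S : Subgroup (Equiv.Perm Δ)).index := by
    rw [← Subgroup.relIndex_mul_index hle, alternatingGroup.index_eq_two]
    exact dvd_mul_left _ _
  exact S.not_dvd_index h2

theorem sylow_perm_card {Δ : Type} [Finite Δ] (S : Sylow 2 (Equiv.Perm Δ)) :
    Nat.card S = sylTwo (Nat.card Δ) := by
  haveI := Fact.mk Nat.prime_two
  rw [S.card_eq_multiplicity, Nat.card_perm, sylTwo, expFact_eq, Nat.factorization_def _ Nat.prime_two]

theorem two_mul_le_sylTwo_of_fpf {k x : ℕ} (h0 : k ≠ 0) (h3 : k ≠ 3) (h5 : k ≠ 5) (h6 : k ≠ 6) (h9 : k ≠ 9)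
    (htab : k < 16 → x ≤ fpfTable k) (hsqrt : x ≤ Nat.sqrt (3 ^ (k - 1))) : 2 * x ≤ sylTwo k := by
  rcases lt_or_ge k 16 with hk | hk
  · have : ∀ k < 16, k ∈ [0, 3, 5, 6, 9] ∨ 2 * fpfTable k ≤ sylTwo k := by decide +kernel
    rcases this k hk with hm | hle
    · simp only [List.mem_cons, List.not_mem_nil, or_false] at hm
      omega
    · exact le_trans (Nat.mul_le_mul_left 2 (htab hk)) hle
  · have hx : x ^ 2 ≤ 3 ^ (k - 1) := Nat.le_sqrt'.1 hsqrt
    have hx' : (2 * x) ^ 2 ≤ 4 * 3 ^ (k - 1) := by rw [mul_pow]; norm_num; exact hx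
    rcases lt_or_ge k 25 with hk' | hk'
    · have : ∀ k < 25, k < 16 ∨ 4 * 3 ^ (k - 1) ≤ sylTwo k ^ 2 := by decide +kernel
      rcases this k hk' with h | h
      · omega
      · exact (Nat.pow_le_pow_iff_left two_ne_zero).1 (hx'.trans h)
    · exact le_of_lt (sq_lt_sylTwo_sq (lt_of_le_of_lt (Nat.mul_le_mul_right _ hx')
        (three_pow_mul_sq_lt k hk')))

/-- The two-part `A`, odd part `B`, and moved set of the odd part of a nilpotent permutation group. -/
theorem exists_odd_part (hG : Group.IsNilpotent G) :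
    ∃ s : SubMulAction G Ω, IsPGroup 2 (resRange (complAction s)) ∧
      (∀ x : s, ∀ i, Nat.card (orbit (resRange s) x) ≠ 2 ^ i) ∧
      (¬ IsPGroup 2 G → Nonempty s) := by
  haveI := Fact.mk Nat.prime_two
  obtain ⟨A, B, hA, hB2, hcard, hgen, hcomm, hco⟩ := exists_pPart_complement hG 2
  have hnorm : ∀ g : G, ∀ b ∈ B, g * b * g⁻¹ ∈ B := by
    intro g b hb
    obtain ⟨a, ha, b', hb', rfl⟩ := hgen g
    have e : a * b' * b * (a * b')⁻¹ = b' * b * b'⁻¹ := by
      rw [mul_inv_rev, mul_assoc a b' b, hcomm a ha (b' * b) (mul_mem hb' hb)]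
      have hc := hcomm a ha b'⁻¹ (inv_mem hb')
      calc b' * b * a * (b'⁻¹ * a⁻¹) = b' * b * (a * b'⁻¹) * a⁻¹ := by group
        _ = b' * b * (b'⁻¹ * a) * a⁻¹ := by rw [hc]
        _ = b' * b * b'⁻¹ := by group
    rw [e]
    exact mul_mem (mul_mem hb' hb) (inv_mem hb')
  let s : SubMulAction G Ω :=
    { carrier := {y | ∃ b ∈ B, b • y ≠ y}
      smul_mem' := fun g y ⟨b, hb, hy⟩ => ⟨g * b * g⁻¹, hnorm g b hb, fun h => hy (by
        rw [← mul_smul, inv_mul_cancel_right, mul_smul] at h
        exact MulAction.injective g h)⟩ }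
  have hfix : ∀ y : complAction s, ∀ b ∈ B, b • (y : Ω) = y := fun y b hb => by
    by_contra h
    exact y.2 ⟨b, hb, h⟩
  refine ⟨s, ?_, ?_, ?_⟩
  · have heq : resRange (complAction s) = A.map (toPermHom G (complAction s)) := by
      refine le_antisymm ?_ (Subgroup.map_le_range _ _)
      rintro _ ⟨g, rfl⟩
      obtain ⟨a, ha, b, hb, rfl⟩ := hgen g
      refine ⟨a, ha, ?_⟩
      apply Equiv.ext
      intro y
      apply Subtype.ext
      show a • (y : Ω) = (a * b) • (y : Ω)
      rw [mul_smul, hfix y b hb]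
    rw [heq]
    exact hA.map _
  · intro x i
    rw [card_orbit_resRange, card_orbit_eq_mul A B hcard hcomm hco hgen]
    have hdvd : Nat.card (orbit B (x : Ω)) ∣ Nat.card B := ⟨Nat.card (stabilizer B (x : Ω)), by
      rw [← Nat.card_prod]; exact (Nat.card_congr (orbitProdStabilizerEquivGroup B (x : Ω))).symm⟩
    have hodd : Odd (Nat.card B) := Nat.coprime_two_right.1 hB2
    refine not_two_pow_of_odd_dvd (hodd.of_dvd_nat hdvd) ?_ (Dvd.intro_left _ rfl) i
    haveI : Nonempty (orbit B (x : Ω)) := ⟨⟨x, mem_orbit_self _⟩⟩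
    have hne : Nat.card (orbit B (x : Ω)) ≠ 1 := by
      intro h1
      haveI := (Nat.card_eq_one_iff_unique.1 h1).1
      obtain ⟨b, hb, hbx⟩ := x.2
      exact hbx (congrArg Subtype.val
        (Subsingleton.elim (⟨b • (x : Ω), ⟨⟨b, hb⟩, rfl⟩⟩ : orbit B (x : Ω)) ⟨x, mem_orbit_self _⟩))
    have : 0 < Nat.card (orbit B (x : Ω)) := Nat.card_pos
    omega
  · intro hG2
    by_contra hc
    apply hG2
    have hB1 : Nat.card B = 1 := by
      haveI : Subsingleton B := ⟨fun b c => Subtype.ext (eq_of_smul_eq_smul (α := Ω) fun y => by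
        have h : y ∈ complAction s := fun hy => hc ⟨⟨y, hy⟩⟩
        rw [hfix ⟨y, h⟩ b b.2, hfix ⟨y, h⟩ c c.2])⟩
      exact Nat.card_unique
    obtain ⟨k, hk⟩ := IsPGroup.iff_card.1 hA
    exact IsPGroup.of_card (n := k) (by rw [← hcard, hB1, mul_one, hk])

theorem card_le_sylTwo_of_isPGroup (hG : IsPGroup 2 G) : Nat.card G ≤ sylTwo (Nat.card Ω) := by
  haveI := Fact.mk Nat.prime_two
  exact card_le_of_pGroup hG

/-- A two-group of even permutations. -/
theorem two_mul_card_le_of_even_two_group [Fintype Ω] [DecidableEq Ω] (hG : IsPGroup 2 G)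
    (hev : ∀ g : G, Equiv.Perm.sign (toPermHom G Ω g) = 1) (hn : 2 ≤ Nat.card Ω) :
    2 * Nat.card G ≤ sylTwo (Nat.card Ω) := by
  haveI := Fact.mk Nat.prime_two
  obtain ⟨S, hS⟩ := (hG.of_surjective _ (toPermHom G Ω).rangeRestrict_surjective).exists_le_sylow
  obtain ⟨σ, hσ, hneg⟩ := exists_sign_neg_one (by rwa [← Nat.card_eq_fintype_card]) S
  have hinj : Nat.card G ≤ Nat.card (Equiv.Perm.sign.comp (S : Subgroup (Equiv.Perm Ω)).subtype).ker := by
    refine Nat.card_le_card_of_injective
      (fun g => (⟨⟨toPermHom G Ω g, hS ⟨g, rfl⟩⟩, hev g⟩ : (Equiv.Perm.sign.comp (S : Subgroup (Equiv.Perm Ω)).subtype).ker)) ?_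
    intro a b h
    exact toPerm_injective (congrArg (fun t => ((t.1 : S) : Equiv.Perm Ω)) h)
  have hidx : (Equiv.Perm.sign.comp (S : Subgroup (Equiv.Perm Ω)).subtype).ker.index = 2 := by
    rw [Subgroup.index_ker]
    have : (Equiv.Perm.sign.comp (S : Subgroup (Equiv.Perm Ω)).subtype).range = ⊤ := by
      rw [eq_top_iff]
      intro u _
      rcases Int.units_eq_one_or u with rfl | rfl
      · exact one_mem _
      · exact ⟨⟨σ, hσ⟩, hneg⟩
    rw [this, Subgroup.card_top]
    simp [Nat.card_eq_fintype_card]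
  rw [← sylow_perm_card S]
  have := Subgroup.card_mul_index (Equiv.Perm.sign.comp (S : Subgroup (Equiv.Perm Ω)).subtype).ker
  rw [hidx] at this
  omega

/-- If the group is even and the invariant complement has at least two points, half of the product bound. -/
theorem two_mul_card_le_split [Fintype Ω] [DecidableEq Ω] (s : SubMulAction G Ω)
    (h2 : IsPGroup 2 (resRange (complAction s)))
    (hev : ∀ g : G, Equiv.Perm.sign (toPermHom G Ω g) = 1) (hn : 2 ≤ Nat.card (complAction s)) :
    2 * Nat.card G ≤ Nat.card (resRange s) * sylTwo (Nat.card (complAction s)) := by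
  classical
  haveI := Fintype.ofFinite s
  haveI := Fintype.ofFinite (complAction s)
  haveI := Fact.mk Nat.prime_two
  obtain ⟨S, hS⟩ := h2.exists_le_sylow
  obtain ⟨σ, hσ, hneg⟩ := exists_sign_neg_one (by rwa [← Nat.card_eq_fintype_card]) S
  let χ : resRange s × S →* ℤˣ :=
    (Equiv.Perm.sign.comp (resRange s).subtype).coprod (Equiv.Perm.sign.comp (S : Subgroup (Equiv.Perm (complAction s))).subtype)
  have hker : ∀ g : G, ((⟨toPermHom G s g, g, rfl⟩ : resRange s),
      (⟨toPermHom G (complAction s) g, hS ⟨g, rfl⟩⟩ : (S : Subgroup (Equiv.Perm (complAction s))))) ∈ χ.ker := fun g => by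
    rw [MonoidHom.mem_ker]
    refine Eq.trans ?_ (hev g)
    rw [sign_toPermHom s g]
    rfl
  have hle : Nat.card G ≤ Nat.card χ.ker := by
    refine Nat.card_le_card_of_injective (fun g => ⟨_, hker g⟩) ?_
    intro a b h
    have h' := congrArg Subtype.val h
    apply resPair_injective s
    refine Prod.ext ?_ ?_
    · exact congrArg (fun t : resRange s × (S : Subgroup (Equiv.Perm (complAction s))) => t.1) h'
    · exact
      (Subtype.ext (congrArg (fun t : resRange s × (S : Subgroup (Equiv.Perm (complAction s))) => (t.2 : Equiv.Perm (complAction s))) h'))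
  have hidx : χ.ker.index = 2 := by
    rw [Subgroup.index_ker]
    have : χ.range = ⊤ := by
      rw [eq_top_iff]
      intro u _
      rcases Int.units_eq_one_or u with rfl | rfl
      · exact one_mem _
      · exact ⟨(1, ⟨σ, hσ⟩), by simp [χ, hneg]⟩
    rw [this, Subgroup.card_top]
    simp [Nat.card_eq_fintype_card]
  have h1 := Subgroup.card_mul_index χ.ker
  rw [hidx, Nat.card_prod, sylow_perm_card] at h1
  omega

/-- Bound for even nilpotent permutation groups which are not 2-groups. -/
theorem two_mul_card_le_of_even [Fintype Ω] [DecidableEq Ω] (hG : Group.IsNilpotent G) (hG2 : ¬ IsPGroup 2 G)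
    (hev : ∀ g : G, Equiv.Perm.sign (toPermHom G Ω g) = 1) :
    (Nat.card Ω % 4 ≠ 3 → Nat.card Ω ≠ 5 → Nat.card Ω ≠ 6 → Nat.card Ω ≠ 9 →
      2 * Nat.card G ≤ sylTwo (Nat.card Ω)) ∧
    (Nat.card Ω % 4 = 3 → 7 ≤ Nat.card Ω → 2 * Nat.card G ≤ 3 * sylTwo (Nat.card Ω - 3)) := by
  obtain ⟨s, h2, horb, hne⟩ := exists_odd_part (Ω := Ω) hG
  obtain ⟨x⟩ := hne hG2
  haveI : Nonempty s := ⟨x⟩
  have hk : 0 < Nat.card s := Nat.card_pos
  have hsum := card_add_card_compl s
  have hnil := isNilpotent_resRange hG s
  have hbound := card_le_nilMax (G := resRange s) (Ω := s) hnil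
  have hfpf := fun a b c d e => two_mul_le_sylTwo_of_fpf (k := Nat.card s) (x := Nat.card (resRange s)) a b c d e
    (card_le_fpfTable hnil horb) (card_le_sqrt_of_fpf hnil horb)
  have hsplit : 2 ≤ Nat.card (complAction s) → 2 * Nat.card G ≤ Nat.card (resRange s) * sylTwo (Nat.card (complAction s)) :=
    two_mul_card_le_split s h2 hev
  have hsmall : Nat.card (complAction s) < 2 → Nat.card G ≤ Nat.card (resRange s) := by
    intro hF
    have h := card_le_resRange_mul s
    haveI : Subsingleton (complAction s) := by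
      rw [← Finite.card_le_one_iff_subsingleton]; omega
    haveI : Subsingleton (Equiv.Perm (complAction s)) := inferInstance
    rw [Nat.card_unique (α := resRange (complAction s)), mul_one] at h
    exact h
  generalize hkdef : Nat.card s = k at *
  generalize hFdef : Nat.card (complAction s) = F at *
  generalize hxdef : Nat.card (resRange s) = X at *
  constructor
  · intro h4 h5 h6 h9
    rcases lt_or_ge F 2 with hF | hF
    · have hG' := hsmall hF
      by_cases hex : k = 3 ∨ k = 5 ∨ k = 6 ∨ k = 9
      · have hn : Nat.card Ω = k + 1 := by omega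
        rw [hn]
        rcases hex with rfl | rfl | rfl | rfl
        · have : X ≤ 3 := hbound.trans (by decide)
          have : sylTwo (3 + 1) = 8 := by decide +kernel
          omega
        · omega
        · omega
        · have : X ≤ 81 := by
            have := card_le_fpfTable hnil horb (by omega)
            rw [hkdef, hxdef] at this
            exact this.trans (by decide)
          have : sylTwo (9 + 1) = 256 := by decide +kernel
          omega
      · have := hfpf (by omega) (by omega) (by omega) (by omega) (by omega)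
        exact le_trans (by omega) (this.trans (sylTwo_mono (by omega)))
    · refine (hsplit hF).trans (le_trans (Nat.mul_le_mul_right _ hbound) ?_)
      rcases eq_or_ne (k % 4) 3 with hk3 | hk3
      · rw [show nilMax k = 3 * sylTwo (k - 3) from if_pos hk3, mul_assoc]
        refine le_trans (Nat.mul_le_mul_left 3 (sylTwo_add_le _ _)) ?_
        rw [show k - 3 + F = Nat.card Ω - 3 by omega]
        have := four_mul_sylTwo_sub_three (n := Nat.card Ω) (by omega) h4
        omega
      · rw [show nilMax k = sylTwo k from if_neg hk3]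
        exact le_trans (sylTwo_add_le _ _) (le_of_eq (by rw [hsum]))
  · intro h4 h7
    rcases lt_or_ge F 2 with hF | hF
    · have hG' := hsmall hF
      by_cases hex : k = 6
      · have hn : Nat.card Ω = 7 := by omega
        have : X ≤ 9 := by
          have := card_le_fpfTable hnil horb (by omega)
          rw [hkdef, hxdef] at this
          exact this.trans (by rw [hex]; decide)
        rw [hn]
        have : sylTwo (7 - 3) = 8 := by decide +kernel
        omega
      · have h := hfpf (by omega) (by omega) (by omega) hex (by omega)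
        have h' := sylTwo_mono (show k ≤ Nat.card Ω by omega)
        rw [sylTwo_of_mod_three h4] at h'
        omega
    · refine (hsplit hF).trans (le_trans (Nat.mul_le_mul_right _ hbound) ?_)
      rcases eq_or_ne (k % 4) 3 with hk3 | hk3
      · rw [show nilMax k = 3 * sylTwo (k - 3) from if_pos hk3, mul_assoc]
        refine Nat.mul_le_mul_left 3 (le_trans (sylTwo_add_le _ _) ?_)
        exact le_of_eq (congrArg sylTwo (by omega))
      · rw [show nilMax k = sylTwo k from if_neg hk3]
        refine le_trans (sylTwo_add_le _ _) ?_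
        rw [hsum, sylTwo_of_mod_three h4]
        omega

end Cfsg.Agent.Lib.NilpotentPerm
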