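import Mathlib
import Cfsg.Agent.Lib.NilpotentPerm.Even

/-! The extremal nilpotent permutation groups of order `3 * 2^a`. -/

set_option autoImplicit false

namespace Cfsg.Agent.Lib.NilpotentPerm

open MulAction

variable {G Ω : Type} [Group G] [Finite G] [Fintype Ω] [DecidableEq Ω] [MulAction G Ω] [FaithfulSMul G Ω]

/-- A nilpotent group of order `3·2^a > sylTwo (n - 3)`, `n % 4 = 3`, has a central 3-cycle. -/
theorem exists_central_threeCycle (hG : Group.IsNilpotent G) (hn : Nat.card Ω % 4 = 3) {a : ℕ}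
    (hcard : Nat.card G = 3 * 2 ^ a) (hbig : sylTwo (Nat.card Ω - 3) < Nat.card G) :
    ∃ z : G, z ∈ Subgroup.center G ∧ orderOf z = 3 ∧ (toPermHom G Ω z).IsThreeCycle := by
  classical
  haveI := Fact.mk Nat.prime_two
  haveI : Fact (Nat.Prime 3) := ⟨Nat.prime_three⟩
  obtain ⟨z, hz⟩ := exists_prime_orderOf_dvd_card' (G := G) 3 (by rw [hcard]; exact dvd_mul_right _ _)
  have hG2 : ¬ IsPGroup 2 G := fun h => by
    obtain ⟨i, hi⟩ := IsPGroup.iff_orderOf.1 h z
    rw [hz] at hi
    rcases i with _ | i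
    · simp at hi
    · rw [pow_succ] at hi; omega
  obtain ⟨s, h2, horb, hne⟩ := exists_odd_part (Ω := Ω) hG
  obtain ⟨x⟩ := hne hG2
  haveI : Nonempty s := ⟨x⟩
  have hk : 0 < Nat.card s := Nat.card_pos
  have hsum := card_add_card_compl s
  have hnil := isNilpotent_resRange hG s
  have hle := card_le_resRange_mul s
  have hF := card_le_sylTwo_of_isPGroup (Ω := complAction s) h2
  have hdvd : Nat.card (resRange s) ∣ 3 * 2 ^ a := hcard ▸ Subgroup.card_range_dvd (toPermHom G s)
  have hfix : ∀ y : Ω, y ∉ s → z • y = y := by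
    intro y hy
    have h1 : orderOf ((toPermHom G (complAction s)).rangeRestrict z) ∣ 3 := hz ▸ orderOf_map_dvd _ _
    obtain ⟨i, hi⟩ := IsPGroup.iff_orderOf.1 h2 ((toPermHom G (complAction s)).rangeRestrict z)
    rcases (Nat.dvd_prime Nat.prime_three).1 h1 with h | h
    · have e := orderOf_eq_one_iff.1 h
      exact congrArg (fun t : resRange (complAction s) => (((t : Equiv.Perm (complAction s)) ⟨y, hy⟩ : complAction s) : Ω)) e
    · erw [h] at hi
      rcases i with _ | i
      · simp at hi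
      · rw [pow_succ] at hi; omega
  have hk3 : Nat.card s = 3 := by
    by_contra hne3
    have hX : 2 * Nat.card (resRange s) ≤ sylTwo (Nat.card s) := by
      by_cases hex : Nat.card s = 5 ∨ Nat.card s = 6 ∨ Nat.card s = 9
      · have ht := card_le_fpfTable hnil horb (by omega)
        have hb : ∀ X ≤ 81, X ∣ 3 * 2 ^ 7 → X ≤ 64 := by decide +kernel
        have hXdvd : ∀ X, X ≤ 81 → X ∣ 3 * 2 ^ a → X ∣ 3 * 2 ^ 7 := by
          intro X hX hd
          obtain ⟨u, v, hu, hv, rfl⟩ := exists_dvd_and_dvd_of_dvd_mul hd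
          obtain ⟨i, -, rfl⟩ := (Nat.dvd_prime_pow Nat.prime_two).1 hv
          refine Nat.mul_dvd_mul hu (pow_dvd_pow 2 ?_)
          by_contra hi
          have h8 := Nat.pow_le_pow_right (show 0 < 2 by norm_num) (Nat.lt_of_not_le hi)
          have := Nat.le_mul_of_pos_left (2 ^ i) (Nat.pos_of_dvd_of_pos hu (by norm_num))
          simp only [Nat.reduceSucc, Nat.reducePow] at h8
          omega
        rcases hex with e | e | e <;> rw [e] at ht ⊢
        · have h5 : fpfTable 5 = 5 := by decide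
          have hs : sylTwo 5 = 8 := by decide +kernel
          have hb5 : ∀ X ≤ 5, X ∣ 3 * 2 ^ 7 → X ≤ 4 := by decide +kernel
          have := hb5 _ (by omega) (hXdvd _ (by omega) hdvd)
          omega
        · have h6 : fpfTable 6 = 9 := by decide
          have hs : sylTwo 6 = 16 := by decide +kernel
          have hb6 : ∀ X ≤ 9, X ∣ 3 * 2 ^ 7 → X ≤ 8 := by decide +kernel
          have := hb6 _ (by omega) (hXdvd _ (by omega) hdvd)
          omega
        · have h9 : fpfTable 9 = 81 := by decide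
          have hs : sylTwo 9 = 128 := by decide +kernel
          have := hb _ (by omega) (hXdvd _ (by omega) hdvd)
          omega
      · exact two_mul_le_sylTwo_of_fpf (by omega) hne3 (by omega) (by omega) (by omega)
          (card_le_fpfTable hnil horb) (card_le_sqrt_of_fpf hnil horb)
    have h := (Nat.mul_le_mul_left 2 (hle.trans (Nat.mul_le_mul_left _ hF))).trans
      ((le_of_eq (mul_assoc 2 _ _).symm).trans ((Nat.mul_le_mul_right _ hX).trans (sylTwo_add_le _ _)))
    rw [hsum, sylTwo_of_mod_three hn] at h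
    omega
  have h3 : (toPermHom G Ω z).IsThreeCycle := by
    rw [← card_support_eq_three_iff]
    have hle3 : (toPermHom G Ω z).support.card ≤ 3 := by
      rw [← hk3]
      haveI := Fintype.ofFinite s
      rw [Nat.card_eq_fintype_card]
      refine le_trans (Finset.card_le_card (t := (Set.range (fun y : s => (y : Ω))).toFinset) ?_) ?_
      · intro y hy
        rw [Equiv.Perm.mem_support] at hy
        rw [Set.mem_toFinset]
        by_contra hys
        exact hy (hfix y (fun h => hys ⟨⟨y, h⟩, rfl⟩))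
      · rw [Set.toFinset_range]
        exact Finset.card_image_le.trans (le_of_eq Finset.card_univ)
    have hne1 : toPermHom G Ω z ≠ 1 := fun e => by
      have : z = 1 := toPerm_injective (e.trans (map_one (toPermHom G Ω)).symm)
      rw [this, orderOf_one] at hz; omega
    have h2le := Equiv.Perm.two_le_card_support_of_ne_one hne1
    have hne2 : (toPermHom G Ω z).support.card ≠ 2 := fun e => by
      have hswap := Equiv.Perm.card_support_eq_two.1 e
      have : orderOf (toPermHom G Ω z) = 2 := hswap.orderOf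
      have hinj : orderOf (toPermHom G Ω z) = orderOf z := orderOf_injective _ toPerm_injective z
      omega
    omega
  refine ⟨z, ?_, hz, h3⟩
  obtain ⟨A, B, hA, hB2, hc, hgen, hcomm, hco⟩ := exists_pPart_complement hG 2
  have hBcard : Nat.card B ∣ 3 := by
    have hd : Nat.card B ∣ 3 * 2 ^ a := ⟨Nat.card A, by rw [← hcard, ← hc, mul_comm]⟩
    exact (Nat.Coprime.pow_right a hB2).dvd_of_dvd_mul_right hd
  obtain ⟨u, hu, v, hv, rfl⟩ := hgen z
  have hu1 : u = 1 := by
    have hcm : Commute u v := hcomm u hu v hv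
    have e : u ^ 3 = 1 := by
      have := pow_orderOf_eq_one (u * v)
      rw [hz, hcm.mul_pow, orderOf_dvd_iff_pow_eq_one.1 ((Subgroup.orderOf_dvd_natCard B hv).trans hBcard),
        mul_one] at this
      exact this
    obtain ⟨i, hi⟩ := IsPGroup.iff_card.1 hA
    have h1 := (Subgroup.orderOf_dvd_natCard A hu).trans (dvd_of_eq hi)
    have h2' := orderOf_dvd_iff_pow_eq_one.2 e
    have hcop : Nat.Coprime (2 ^ i) 3 := Nat.Coprime.pow_left i (by norm_num)
    exact orderOf_eq_one_iff.1 (Nat.eq_one_of_dvd_coprimes hcop h1 h2')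
  subst hu1
  rw [Subgroup.mem_center_iff]
  intro g
  obtain ⟨a', ha', b', hb', rfl⟩ := hgen g
  haveI : IsCyclic B := by
    rcases (Nat.dvd_prime Nat.prime_three).1 hBcard with h | h
    · haveI := (Nat.card_eq_one_iff_unique.1 h).1
      exact isCyclic_of_subsingleton
    · exact isCyclic_of_prime_card h
  have hBc : b' * v = v * b' := congrArg Subtype.val (IsCyclic.commGroup.mul_comm (⟨b', hb'⟩ : B) ⟨v, hv⟩)
  rw [one_mul, mul_assoc, hBc, ← mul_assoc, hcomm a' ha' v hv, mul_assoc]

/-- A subgroup generated by a central element of prime-to-2 order and a 2-group is nilpotent. -/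
theorem exists_nilpotent_zpowers_mul {H : Type} [Group H] [Finite H] (z : H) (S : Subgroup H) (hS : IsPGroup 2 S)
    (hcomm : ∀ a ∈ S, z * a = a * z) (hz : orderOf z = 3) :
    Group.IsNilpotent (Subgroup.zpowers z ⊔ S : Subgroup H) ∧
      Nat.card (Subgroup.zpowers z ⊔ S : Subgroup H) = 3 * Nat.card S := by
  haveI := Fact.mk Nat.prime_two
  haveI : Fact (Nat.Prime 3) := ⟨Nat.prime_three⟩
  let f : Subgroup.zpowers z × S →* H :=
    (Subgroup.zpowers z).subtype.noncommCoprod S.subtype (fun a b => by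
      obtain ⟨i, hi⟩ := Subgroup.mem_zpowers_iff.1 a.2
      show Commute (a : H) (b : H)
      rw [← hi]
      exact Commute.zpow_left (hcomm b b.2) i)
  have hdisj : Disjoint (Subgroup.zpowers z) S := by
    rw [disjoint_iff, Subgroup.eq_bot_iff_forall]
    intro x hx
    obtain ⟨i, hi⟩ := IsPGroup.iff_card.1 hS
    have h1 := Subgroup.orderOf_dvd_natCard _ hx.1
    rw [Nat.card_zpowers, hz] at h1
    have h2 := (Subgroup.orderOf_dvd_natCard _ hx.2).trans (dvd_of_eq hi)
    exact orderOf_eq_one_iff.1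
      (Nat.eq_one_of_dvd_coprimes (Nat.Coprime.pow_right i (by norm_num)) h1 h2)
  have hf : Function.Injective f := by
    rw [MonoidHom.noncommCoprod_injective]
    exact ⟨Subtype.val_injective, Subtype.val_injective, by simpa using hdisj⟩
  have hr : f.range = Subgroup.zpowers z ⊔ S := by
    simp [f, MonoidHom.noncommCoprod_range]
  have hz3 : IsPGroup 3 (Subgroup.zpowers z) := IsPGroup.of_card (n := 1) (by rw [Nat.card_zpowers, hz, pow_one])
  haveI := hz3.isNilpotent
  haveI := hS.isNilpotent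
  rw [← hr]
  refine ⟨Group.nilpotent_of_surjective f.rangeRestrict f.rangeRestrict_surjective, ?_⟩
  rw [← Nat.card_congr (MonoidHom.ofInjective hf).toEquiv, Nat.card_prod, Nat.card_zpowers, hz]

/-- Conjugacy of extremal nilpotent subgroups. -/
theorem conj_of_extremal {H : Type} [Group H] [Finite H] (a : ℕ) (Cyc : H → Prop)
    (hconj : ∀ u v, Cyc u → Cyc v → IsConj u v)
    (hbound : ∀ N : Subgroup H, Group.IsNilpotent N → Nat.card N ≤ 3 * 2 ^ a)
    (hex : ∀ N : Subgroup H, Group.IsNilpotent N → Nat.card N = 3 * 2 ^ a →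
      ∃ z ∈ N, (∀ g ∈ N, g * z = z * g) ∧ orderOf z = 3 ∧ Cyc z)
    (N₁ N₂ : Subgroup H) (h₁ : Group.IsNilpotent N₁) (h₂ : Group.IsNilpotent N₂)
    (c₁ : Nat.card N₁ = 3 * 2 ^ a) (c₂ : Nat.card N₂ = 3 * 2 ^ a) :
    ∃ g : H, N₂ = N₁.map (MulAut.conj g).toMonoidHom := by
  haveI := Fact.mk Nat.prime_two
  obtain ⟨z₁, hz₁, hc₁, ho₁, hy₁⟩ := hex N₁ h₁ c₁
  obtain ⟨z₂, hz₂, hc₂, ho₂, hy₂⟩ := hex N₂ h₂ c₂
  obtain ⟨g, hg⟩ := isConj_iff.1 (hconj z₁ z₂ hy₁ hy₂)
  let C : Subgroup H := Subgroup.centralizer {z₂}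
  have key : ∀ N : Subgroup H, Group.IsNilpotent N → Nat.card N = 3 * 2 ^ a → z₂ ∈ N →
      (∀ x ∈ N, x * z₂ = z₂ * x) → ∃ S : Sylow 2 C, N = Subgroup.zpowers z₂ ⊔ (S : Subgroup C).map C.subtype := by
    intro N hN hc hz hcen
    obtain ⟨T⟩ : Nonempty (Sylow 2 N) := inferInstance
    have hNC : N ≤ C := fun x hx => Subgroup.mem_centralizer_singleton_iff.2 (hcen x hx)
    have hT : IsPGroup 2 (((T : Subgroup N).map N.subtype).subgroupOf C) :=
      (T.2.map N.subtype).of_equiv (Subgroup.subgroupOfEquivOfLe ((Subgroup.map_subtype_le _).trans hNC)).symm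
    obtain ⟨S, hS⟩ := hT.exists_le_sylow
    refine ⟨S, ?_⟩
    obtain ⟨hn', hc'⟩ := exists_nilpotent_zpowers_mul z₂ ((S : Subgroup C).map C.subtype) (S.2.map _)
      (by rintro _ ⟨x, hx, rfl⟩; exact (Subgroup.mem_centralizer_singleton_iff.1 x.2).symm) ho₂
    have hTN : Subgroup.zpowers z₂ ⊔ (T : Subgroup N).map N.subtype = N := by
      obtain ⟨-, hc''⟩ := exists_nilpotent_zpowers_mul z₂ ((T : Subgroup N).map N.subtype) (T.2.map _)
        (by rintro _ ⟨x, hx, rfl⟩; exact (hcen x x.2).symm) ho₂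
      refine Subgroup.eq_of_le_of_card_ge (sup_le (Subgroup.zpowers_le.2 hz) (Subgroup.map_subtype_le _)) ?_
      rw [hc'', hc, Subgroup.card_map_of_injective N.subtype_injective, T.card_eq_multiplicity, hc,
        Nat.factorization_mul (by norm_num) (by positivity), Finsupp.add_apply, Nat.Prime.factorization_pow Nat.prime_two]
      rw [Nat.factorization_eq_zero_of_not_dvd (show ¬ 2 ∣ 3 by norm_num)]
      simp
    have hle : N ≤ Subgroup.zpowers z₂ ⊔ (S : Subgroup C).map C.subtype := by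
      refine le_trans (le_of_eq hTN.symm) (sup_le_sup le_rfl ?_)
      intro x hx
      exact ⟨⟨x, hNC (Subgroup.map_subtype_le _ hx)⟩, hS (by exact hx), rfl⟩
    exact Subgroup.eq_of_le_of_card_ge hle (by rw [hc]; exact hbound _ hn')
  let f := (MulAut.conj g).toMonoidHom
  have hinj : Function.Injective f := (MulAut.conj g).injective
  have hz₁' : z₂ ∈ N₁.map f := ⟨z₁, hz₁, hg⟩
  have hN₁ : Group.IsNilpotent (N₁.map f) :=
    haveI := h₁
    Group.nilpotent_of_surjective (f.subgroupMap N₁) (f.subgroupMap_surjective N₁)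
  obtain ⟨S₁, e₁⟩ := key (N₁.map f) hN₁ (by rw [Subgroup.card_map_of_injective hinj, c₁]) hz₁' (by
    rintro _ ⟨x, hx, rfl⟩
    have hg' : f z₁ = z₂ := hg
    rw [← hg', ← map_mul, hc₁ x hx, map_mul])
  obtain ⟨S₂, e₂⟩ := key N₂ h₂ c₂ hz₂ hc₂
  obtain ⟨c, hc⟩ := MulAction.exists_smul_eq C S₁ S₂
  refine ⟨(c : H) * g, ?_⟩
  have hcz : (MulAut.conj (c : H)).toMonoidHom z₂ = z₂ := by
    show (c : H) * z₂ * (c : H)⁻¹ = z₂
    rw [Subgroup.mem_centralizer_singleton_iff.1 c.2, mul_inv_cancel_right]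
  have hcomp : N₁.map (MulAut.conj ((c : H) * g)).toMonoidHom = (N₁.map f).map (MulAut.conj (c : H)).toMonoidHom := by
    rw [Subgroup.map_map]
    congr 1
    ext x
    simp [f, mul_assoc]
  rw [hcomp, e₁, Subgroup.map_sup, MonoidHom.map_zpowers, hcz, e₂, Subgroup.map_map]
  congr 1
  rw [← hc, Sylow.coe_subgroup_smul]
  ext x
  constructor
  · rintro ⟨_, ⟨y, hy, rfl⟩, rfl⟩
    exact ⟨y, hy, rfl⟩
  · rintro ⟨y, hy, rfl⟩
    exact ⟨_, ⟨y, hy, rfl⟩, rfl⟩

end Cfsg.Agent.Lib.NilpotentPerm
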