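import Mathlib
import Cfsg.Agent.Lib.NilpotentPerm.Extremal

/-! Sylow 2-orders of alternating groups and the embedding `P × C₃ → Sym`. -/

set_option autoImplicit false

namespace Cfsg.Agent.Lib.NilpotentPerm

open MulAction

theorem two_mul_sylow_alternating_card {Δ : Type} [Fintype Δ] [DecidableEq Δ] (h : 2 ≤ Fintype.card Δ)
    (S : Sylow 2 (alternatingGroup Δ)) : 2 * Nat.card S = sylTwo (Nat.card Δ) := by
  haveI := Fact.mk Nat.prime_two
  haveI : Nontrivial Δ := Fintype.one_lt_card_iff_nontrivial.1 h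
  have h2 : 2 * Nat.card (alternatingGroup Δ) = (Nat.card Δ).factorial := by
    rw [two_mul_nat_card_alternatingGroup, Nat.card_perm]
  rw [S.card_eq_multiplicity, sylTwo, expFact_eq, ← Nat.factorization_def _ Nat.prime_two, ← h2,
    Nat.factorization_mul two_ne_zero Nat.card_pos.ne', Finsupp.add_apply, Nat.prime_two.factorization_self,
    pow_add, pow_one]

/-- The regular representation of the group of order three. -/
noncomputable def c3Hom : Multiplicative (ZMod 3) →* Equiv.Perm (Multiplicative (ZMod 3)) :=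
  toPermHom (Multiplicative (ZMod 3)) (Multiplicative (ZMod 3))

theorem sign_c3Hom (c : Multiplicative (ZMod 3)) : Equiv.Perm.sign (c3Hom c) = 1 := by
  have h : c ^ 3 = 1 := by
    have := pow_card_eq_one' (x := c)
    simpa using this
  have h2 := congrArg (fun x => Equiv.Perm.sign (c3Hom x)) h
  simp only [map_pow, map_one] at h2
  rcases Int.units_eq_one_or (Equiv.Perm.sign (c3Hom c)) with e | e
  · exact e
  · rw [e] at h2; exact absurd h2 (by decide)

/-- A choice of decomposition of `Fin n` into `n - 3` points and three points. -/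
noncomputable def splitEquiv {n : ℕ} (hn : 3 ≤ n) : Fin n ≃ Fin (n - 3) ⊕ Multiplicative (ZMod 3) :=
  Fintype.equivOfCardEq (by simp; omega)

/-- `Sym(n-3) × C₃ → Sym(n)`. -/
noncomputable def prodC3Hom {n : ℕ} (hn : 3 ≤ n) :
    Equiv.Perm (Fin (n - 3)) × Multiplicative (ZMod 3) →* Equiv.Perm (Fin n) :=
  ((splitEquiv hn).symm.permCongrHom.toMonoidHom.comp (Equiv.Perm.sumCongrHom _ _)).comp
    ((MonoidHom.id _).prodMap c3Hom)

theorem prodC3Hom_injective {n : ℕ} (hn : 3 ≤ n) : Function.Injective (prodC3Hom hn) := by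
  intro x y h
  have h1 : (Equiv.Perm.sumCongrHom _ _) ((MonoidHom.id _).prodMap c3Hom x) =
      (Equiv.Perm.sumCongrHom _ _) ((MonoidHom.id _).prodMap c3Hom y) :=
    (splitEquiv hn).symm.permCongrHom.injective h
  have h2 := Equiv.Perm.sumCongrHom_injective h1
  exact Prod.ext (congrArg Prod.fst h2 : _) (toPerm_injective (congrArg Prod.snd h2 : _))

theorem sign_prodC3Hom {n : ℕ} (hn : 3 ≤ n) (x : Equiv.Perm (Fin (n - 3)) × Multiplicative (ZMod 3)) :
    Equiv.Perm.sign (prodC3Hom hn x) = Equiv.Perm.sign x.1 := by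
  show Equiv.Perm.sign ((splitEquiv hn).symm.permCongr (Equiv.sumCongr x.1 (c3Hom x.2))) = _
  rw [Equiv.Perm.sign_permCongr, Equiv.Perm.sign_sumCongr, sign_c3Hom, mul_one]

theorem card_c3 : Nat.card (Multiplicative (ZMod 3)) = 3 := by simp

theorem isNilpotent_prod_c3 {P : Type} [Group P] [Finite P] (hP : IsPGroup 2 P) :
    Group.IsNilpotent (P × Multiplicative (ZMod 3)) := by
  haveI := Fact.mk Nat.prime_two
  haveI := hP.isNilpotent
  haveI : Group.IsNilpotent (Multiplicative (ZMod 3)) := CommGroup.isNilpotent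
  infer_instance

end Cfsg.Agent.Lib.NilpotentPerm
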